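import Cfsg.Agent.H302.Count
import Cfsg.Agent.UGT.FourB.Trans
import Cfsg.Prelude.Def_TwoFusion
import Mathlib
import Cfsg.Agent.SylowL.NoCompT
import Cfsg.Agent.Lib.TwoClassEnd_m3
import Cfsg.Agent.TypeL3.CharTwo_m3
import Cfsg.Agent.FastGrp
import Cfsg.Agent.Prune
set_option linter.all false
prune_inst 0x7f00000000000000000000000000000000000000000000000000000000000000000000000000000000000000000000000000000000000000000000000000000000000000000000000000000000000000003fffffffffffffffffffffffffffbeffbdffffffff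
open scoped Cfsg.Agent.FastGrp

-- part: H302/Ess
section
/-!
# Essential subgroups of `UT_5(2)/Z` (helper302)

`A_le_of_ess`: every essential subgroup of a Sylow 2-subgroup isomorphic to `UT_5(2)/Z` contains `A`.
`isStronglyClosed`: `A` is strongly closed.
-/

set_option autoImplicit false

namespace Cfsg.Agent.H302

open Subgroup Cfsg.Agent.Lib.EssDefs Cfsg.Agent.Lib.EssBridge
open Cfsg.Agent.Lib.GoldschmidtFusion (map_conj_le_of_le_normalizer)

universe uu

abbrev c12 : V := ⟨true, false, false, false, false, false, false, false, false⟩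
abbrev c45 : V := ⟨false, false, false, true, false, false, false, false, false⟩
abbrev c13 : V := ⟨false, false, false, false, true, false, false, false, false⟩
abbrev c35 : V := ⟨false, false, false, false, false, false, true, false, false⟩
abbrev c14 : V := ⟨false, false, false, false, false, false, false, true, false⟩
abbrev c25 : V := ⟨false, false, false, false, false, false, false, false, true⟩

/-! ### Commutators -/

theorem cm_K {s k : V} (hk : pK k = true) : cm s k = one := by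
  rw [pK_iff] at hk
  obtain ⟨h1, h2, h3, h4, h5, h6, h7⟩ := hk
  apply V.ext' <;> simp [cm, one, h1, h2, h3, h4, h5, h6, h7]

theorem cm_K' {s k : V} (hk : pK k = true) : cm k s = one := by
  rw [pK_iff] at hk
  obtain ⟨h1, h2, h3, h4, h5, h6, h7⟩ := hk
  apply V.ext' <;> simp [cm, one, h1, h2, h3, h4, h5, h6, h7]

theorem pK_cm_I {s a : V} (ha : pI a = true) : pK (cm a s) = true := by
  rw [pI_iff] at ha
  obtain ⟨h1, h2, h3, h4, h5⟩ := ha
  rw [pK_iff]
  simp [cm, h1, h2, h4, h5]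

theorem pI_cm_A {s a : V} (ha : pA a = true) : pI (cm a s) = true := by
  rw [pA_iff] at ha
  obtain ⟨h1, h2, h3⟩ := ha
  rw [pI_iff]
  simp [cm, h1, h2]

theorem pK_cm_M {s w : V} (hw : pM w = true) : pK (cm s w) = true := by
  rw [pM_iff] at hw
  obtain ⟨h1, h2, h3, h4⟩ := hw
  rw [pK_iff]
  simp [cm, h1, h2, h3, h4]

theorem cm_AA {a b : V} (ha : pA a = true) (hb : pA b = true) : cm a b = one := by
  rw [pA_iff] at ha hb
  obtain ⟨h1, h2, h3⟩ := ha
  obtain ⟨k1, k2, k3⟩ := hb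
  apply V.ext' <;> simp [cm, one, h1, h2, h3, k1, k2, k3]

theorem cm_IM {a w : V} (ha : pI a = true) (h23 : w.a23 = false) (h34 : w.a34 = false) : cm a w = one := by
  rw [pI_iff] at ha
  obtain ⟨h1, h2, h3, h4, h5⟩ := ha
  apply V.ext' <;> simp [cm, one, h1, h2, h3, h4, h5, h23, h34]

/-- two different non-trivial commutators -/
theorem exists_two {x w : V} (h23 : x.a23 = true) (h34 : x.a34 = true) (hw : pM w ≠ true) :
    ∃ s s' : V, (s = x ∨ s = mul x x ∨ s = c13 ∨ s = c35) ∧ (s' = x ∨ s' = mul x x ∨ s' = c13 ∨ s' = c35) ∧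
      cm s w ≠ one ∧ cm s' w ≠ one ∧ cm s w ≠ cm s' w := by
  obtain ⟨s12, s23, s34, s45, s13, s24, s35, s14, s25⟩ := x
  simp only at h23 h34
  subst h23 h34
  obtain ⟨w12, w23, w34, w45, w13, w24, w35, w14, w25⟩ := w
  rcases w23 with _ | _ <;> rcases w34 with _ | _
  · -- both zero
    rw [Ne, pM_iff] at hw
    simp only [true_and, not_and, Bool.not_eq_false] at hw
    refine ⟨_, _, Or.inl rfl, Or.inr (Or.inl rfl), ?_, ?_, ?_⟩
    · intro h
      have e1 := congrArg V.a13 h
      have e2 := congrArg V.a35 h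
      simp [cm, one] at e1 e2
      simp [e1, e2] at hw
    · intro h
      have e1 := congrArg V.a14 h
      have e2 := congrArg V.a25 h
      simp [cm, one, mul] at e1 e2
      simp [e1, e2] at hw
    · intro h
      have e1 := congrArg V.a13 h
      have e2 := congrArg V.a35 h
      simp [cm, mul] at e1 e2
      simp [e1, e2] at hw
  · refine ⟨c13, _, Or.inr (Or.inr (Or.inl rfl)), Or.inl rfl, ?_, ?_, ?_⟩
    · intro h
      have e1 := congrArg V.a14 h
      simp [cm, one] at e1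
    · intro h
      have e1 := congrArg V.a24 h
      simp [cm, one] at e1
    · intro h
      have e1 := congrArg V.a24 h
      simp [cm] at e1
  · refine ⟨c35, _, Or.inr (Or.inr (Or.inr rfl)), Or.inl rfl, ?_, ?_, ?_⟩
    · intro h
      have e1 := congrArg V.a25 h
      simp [cm, one] at e1
    · intro h
      have e1 := congrArg V.a24 h
      simp [cm, one] at e1
    · intro h
      have e1 := congrArg V.a24 h
      simp [cm] at e1
  · refine ⟨c13, c35, Or.inr (Or.inr (Or.inl rfl)), Or.inr (Or.inr (Or.inr rfl)), ?_, ?_, ?_⟩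
    · intro h
      have e1 := congrArg V.a14 h
      simp [cm, one] at e1
    · intro h
      have e1 := congrArg V.a25 h
      simp [cm, one] at e1
    · intro h
      have e1 := congrArg V.a14 h
      simp [cm] at e1

/-! ### Group level -/

section
variable {G : Type uu} [Group G] {S : Subgroup G} {u : V → G}

theorem Emb.commute (h : Emb S u) {a b : V} (hab : cm a b = H302.one) : u a * u b = u b * u a := by
  have h1 := h.comm a b
  rw [hab, h.one] at h1
  calc u a * u b = (u a * u b * (u a)⁻¹ * (u b)⁻¹) * (u b * u a) := by group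
    _ = u b * u a := by rw [h1, one_mul]

theorem Emb.cm_of_commute (h : Emb S u) {a b : V} (hab : u a * u b = u b * u a) : cm a b = H302.one := by
  apply h.inj
  rw [h.one, ← h.comm, hab]
  group

/-- the centre of `X` is invariant -/
theorem normalizer_le_center (X : Subgroup G) :
    normalizer (X : Set G) ≤ normalizer ((X ⊓ centralizer (X : Set G) : Subgroup G) : Set G) := by
  have key : ∀ n ∈ normalizer (X : Set G), ∀ z ∈ X ⊓ centralizer (X : Set G),
      n * z * n⁻¹ ∈ X ⊓ centralizer (X : Set G) := by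
    rintro n hn z ⟨hz, hz'⟩
    refine ⟨(mem_normalizer_iff.1 hn z).1 hz, mem_centralizer_iff.2 ?_⟩
    intro x hx
    have h4 : n⁻¹ * x * n ∈ X := (mem_normalizer_iff''.1 hn x).1 hx
    have h5 := mem_centralizer_iff.1 hz' _ h4
    calc x * (n * z * n⁻¹) = n * (n⁻¹ * x * n * z) * n⁻¹ := by group
      _ = n * (z * (n⁻¹ * x * n)) * n⁻¹ := by rw [h5]
      _ = n * z * n⁻¹ * x := by group
  intro n hn
  rw [mem_normalizer_iff]
  intro z
  refine ⟨key n hn z, fun hz => ?_⟩
  have := key n⁻¹ (inv_mem hn) _ hz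
  simpa [mul_assoc] using this

theorem mem_normalizer_of_comm [Finite G] {X : Subgroup G} {a : G} (ha : ∀ x ∈ X, a * x * a⁻¹ * x⁻¹ ∈ X) :
    a ∈ normalizer (X : Set G) := by
  apply Subgroup.mem_normalizer_fintype
  intro x hx
  have := mul_mem (ha x hx) hx
  simpa using this

variable [Finite G] {X H : Subgroup G}

theorem K_mem (h : Emb S u) (hX : IsEss 2 S X H) {k : V} (hk : pK k = true) : u k ∈ X := by
  apply hX.cent
  refine ⟨mem_centralizer_iff.2 ?_, h.mem k⟩
  intro x hx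
  obtain ⟨v, rfl⟩ := h.surj x (hX.lt.le hx)
  exact (h.commute (cm_K' hk)).symm

/-- the case of an elementary abelian image in `S / A` -/
theorem elem_case (hS : IsPGroup 2 S) (h : Emb S u) (hX : IsEss 2 S X H) (pX pB pK1 : V → Bool) (zc : V)
    (hpX : ∀ v, u v ∈ X → pX v = true) (hBA : ∀ a, pB a = true → pA a = true)
    (hα : ∀ s a, pX s = true → pB a = true → cm a s = H302.one ∨ cm a s = zc)
    (hβ : ∀ s a, pX s = true → pA a = true → pK1 (cm a s) = true)
    (hγ : ∀ s k, pX s = true → pK1 k = true → cm k s = H302.one)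
    (hδ : pK zc = true)
    (hε : ∀ w, pX w = true → pA w ≠ true → ∃ a1 a2, pA a1 = true ∧ pA a2 = true ∧ cm a1 w ≠ H302.one ∧
      cm a2 w ≠ H302.one ∧ cm (mul a1 a2) w ≠ H302.one)
    (hζ : ∀ a b, pA a = true → pA b = true → pB a ≠ true → pB b ≠ true → pB (mul a b) = true) :
    h.A ≤ X := by
  have hXS := hX.lt.le
  have hcode : ∀ x ∈ X, ∃ v, pX v = true ∧ u v = x := by
    intro x hx
    obtain ⟨v, rfl⟩ := h.surj x (hXS hx)
    exact ⟨v, hpX v hx, rfl⟩
  have hK1c : ∀ k, pK1 k = true → u k ∈ centralizer (X : Set G) := by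
    intro k hk
    rw [mem_centralizer_iff]
    intro x hx
    obtain ⟨v, hv, rfl⟩ := hcode x hx
    exact (h.commute (hγ v k hv hk)).symm
  have hK1X : ∀ k, pK1 k = true → u k ∈ X := fun k hk => hX.cent ⟨hK1c k hk, h.mem k⟩
  have hAN : ∀ a, pA a = true → u a ∈ normalizer (X : Set G) := by
    intro a ha
    apply mem_normalizer_of_comm
    intro x hx
    obtain ⟨v, hv, rfl⟩ := hcode x hx
    rw [h.comm]
    exact hK1X _ (hβ v a hv ha)
  have hAA : ∀ a b, pA a = true → pA b = true → u a * u b = u b * u a := fun a b ha hb =>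
    h.commute (cm_AA ha hb)
  have hsq : ∀ a, pA a = true → u a * u a = 1 := by
    intro a ha
    rw [← h.mul, mul_self_A a ha, h.one]
  have hpA_zc : pA zc = true := by
    rw [pK_iff] at hδ
    rw [pA_iff]
    exact ⟨hδ.1, hδ.2.1, hδ.2.2.1⟩
  -- transvections
  have step1 : ∀ a, pB a = true → u a ∉ X → ∀ y, pA y = true → u y ∈ X ∨ u (mul a y) ∈ X := by
    intro a ha haX y hy
    by_contra hcon
    push Not at hcon
    obtain ⟨hyX, hayX⟩ := hcon
    have haA := hBA a ha
    have htr : Cfsg.Agent.UGT.FourB.Trans.Tr X (u a) (u zc) := by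
      refine ⟨hAN a haA, K_mem h hX hδ, hsq zc hpA_zc, ?_, hAA _ _ haA hpA_zc, ?_⟩
      · intro x hx
        obtain ⟨v, hv, rfl⟩ := hcode x hx
        exact h.commute (cm_K' hδ)
      · intro x hx
        obtain ⟨v, hv, rfl⟩ := hcode x hx
        have h1 := h.comm a v
        rcases hα v a hv ha with h2 | h2
        · left
          rw [h2, h.one] at h1
          exact mul_inv_eq_one.1 h1
        · right
          rw [h2] at h1
          exact mul_inv_eq_iff_eq_mul.1 h1
    refine Cfsg.Agent.UGT.FourB.Trans.no_four hX htr (h.mem a) haX (h.mem y) (hAN y hy) hyX ?_ ?_ ?_ ?_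
    · rw [hsq y hy]; exact one_mem _
    · rw [h.comm, cm_AA hy haA, h.one]; exact one_mem _
    · rwa [← h.mul]
    · rw [hsq a haA]; exact one_mem _
  by_contra hcon
  obtain ⟨_, ⟨a0, ha0, rfl⟩, ha0X⟩ := SetLike.not_le_iff_exists.1 hcon
  -- an element of `A - X` with `|A : A ∩ X| = 2`
  obtain ⟨a, haA, haX, hidx⟩ : ∃ a, pA a = true ∧ u a ∉ X ∧ ∀ y, pA y = true → u y ∈ X ∨ u (mul a y) ∈ X := by
    by_cases hB : ∃ a, pB a = true ∧ u a ∉ X
    · obtain ⟨a, ha, haX⟩ := hB
      exact ⟨a, hBA a ha, haX, step1 a ha haX⟩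
    · push Not at hB
      refine ⟨a0, ha0, ha0X, fun y hy => ?_⟩
      by_cases hyB : pB y = true
      · exact Or.inl (hB y hyB)
      · refine Or.inr (hB _ (hζ a0 y ha0 hy ?_ hyB))
        intro h1
        exact ha0X (hB a0 h1)
  -- the centre of `X` lies in `A`
  have hZA : ∀ w, u w ∈ X → u w ∈ centralizer (X : Set G) → pA w = true := by
    intro w hwX hwC
    by_contra hcon
    obtain ⟨a1, a2, h1, h2, n1, n2, n12⟩ := hε w (hpX w hwX) hcon
    have hno : ∀ b, cm b w ≠ H302.one → u b ∉ X := by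
      intro b hb hbX
      exact hb (h.cm_of_commute (mem_centralizer_iff.1 hwC _ hbX))
    have m1 := (hidx a1 h1).resolve_left (hno a1 n1)
    have m2 := (hidx a2 h2).resolve_left (hno a2 n2)
    apply hno _ n12
    have e : u (mul a1 a2) = u (mul a a1) * u (mul a a2) := by
      rw [h.mul, h.mul, h.mul]
      calc u a1 * u a2 = (u a * u a) * (u a1 * u a2) := by rw [hsq a haA, one_mul]
        _ = u a * (u a * u a1) * u a2 := by group
        _ = u a * (u a1 * u a) * u a2 := by rw [hAA a a1 haA h1]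
        _ = u a * u a1 * (u a * u a2) := by group
    rw [e]
    exact mul_mem m1 m2
  apply haX
  have f2 : Fact (Nat.Prime 2) := ⟨Nat.prime_two⟩
  obtain ⟨D, hD⟩ : ∃ D : ℕ → Subgroup G, D = fun n => if n = 0 then X else
    if n = 1 then X ⊓ centralizer (X : Set G) else ⊥ := ⟨_, rfl⟩
  refine Cfsg.Agent.Hex.SE.mem_of_chain hS hX D (k := 2) (by rw [hD]; rfl) (by rw [hD]; rfl) ?_ ?_ (h.mem a)
    (hAN a haA) ?_
  · intro i
    rw [hD]
    rcases i with _ | _ | i
    · exact inf_le_left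
    · exact bot_le
    · exact le_rfl
  · intro n hn i d hd
    rw [hD] at hd ⊢
    rcases i with _ | _ | i
    · exact (mem_normalizer_iff.1 hn d).1 hd
    · exact (mem_normalizer_iff.1 (normalizer_le_center X hn) d).1 hd
    · have hd1 : d = 1 := hd
      have : n * d * n⁻¹ = 1 := by rw [hd1]; group
      exact this
  · intro i d hd
    rw [hD] at hd ⊢
    rcases i with _ | _ | i
    · obtain ⟨v, hv, rfl⟩ := hcode d hd
      change u a * u v * (u a)⁻¹ * (u v)⁻¹ ∈ X ⊓ centralizer (X : Set G)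
      rw [h.comm]
      exact ⟨hK1X _ (hβ v a hv haA), hK1c _ (hβ v a hv haA)⟩
    · obtain ⟨w, hw, rfl⟩ := hcode d hd.1
      change u a * u w * (u a)⁻¹ * (u w)⁻¹ = 1
      rw [hAA a w haA (hZA w hd.1 hd.2)]
      group
    · have hd1 : d = 1 := hd
      have : u a * d * (u a)⁻¹ * d⁻¹ = 1 := by rw [hd1]; group
      exact this

/-- case (i): `X` is contained in `⟨A, x23, x24⟩` -/
theorem case_one (hS : IsPGroup 2 S) (h : Emb S u) (hX : IsEss 2 S X H)
    (hpX : ∀ v, u v ∈ X → v.a34 = false) : h.A ≤ X := by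
  refine elem_case hS h hX (fun v => !v.a34) (fun v => pA v && !v.a12)
    (fun v => (pA v && !v.a12) && (!v.a45 && !v.a35)) c25 ?_ ?_ ?_ ?_ ?_ (by decide) ?_ ?_
  · intro v hv
    simp [hpX v hv]
  · intro a ha
    rw [Bool.and_eq_true] at ha
    exact ha.1
  · intro s a hs ha
    rw [Bool.and_eq_true, pA_iff] at ha
    simp only [Bool.not_eq_true'] at hs ha
    obtain ⟨⟨h1, h2, h3⟩, h4⟩ := ha
    by_cases h5 : ((a.a45 && s.a24) ^^ (a.a35 && s.a23)) = true
    · right
      apply V.ext' <;> simp [cm, h1, h2, h3, h4, hs]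
      revert h5
      generalize a.a45 = p; generalize s.a24 = q; generalize a.a35 = r; generalize s.a23 = t
      revert p q r t
      decide
    · left
      apply V.ext' <;> simp [cm, one, h1, h2, h3, h4, hs]
      revert h5
      generalize a.a45 = p; generalize s.a24 = q; generalize a.a35 = r; generalize s.a23 = t
      revert p q r t
      decide
  · intro s a hs ha
    rw [pA_iff] at ha
    simp only [Bool.not_eq_true'] at hs
    obtain ⟨h1, h2, h3⟩ := ha
    simp [pA, cm, h1, h2, hs]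
  · intro s k hs hk
    simp only [Bool.not_eq_true', Bool.and_eq_true, pA_iff] at hs hk
    obtain ⟨⟨⟨h1, h2, h3⟩, h4⟩, h5, h6⟩ := hk
    apply V.ext' <;> simp [cm, one, h1, h2, h3, h4, h5, h6, hs]
  · intro w hw hwA
    simp only [Bool.not_eq_true'] at hw
    rw [Ne, pA_iff] at hwA
    obtain ⟨w12, w23, w34, w45, w13, w24, w35, w14, w25⟩ := w
    simp only at hw hwA
    subst hw
    rcases w23 with _ | _
    · have h24 : w24 = true := by simpa using hwA
      subst h24
      refine ⟨c12, c45, by decide, by decide, ?_, ?_, ?_⟩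
      · intro h1; have := congrArg V.a14 h1; simp [cm, one] at this
      · intro h1; have := congrArg V.a25 h1; simp [cm, one] at this
      · intro h1; have := congrArg V.a14 h1; simp [cm, one, mul] at this
    · refine ⟨c12, c35, by decide, by decide, ?_, ?_, ?_⟩
      · intro h1; have := congrArg V.a13 h1; simp [cm, one] at this
      · intro h1; have := congrArg V.a25 h1; simp [cm, one] at this
      · intro h1; have := congrArg V.a13 h1; simp [cm, one, mul] at this
  · intro a b ha hb hBa hBb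
    have h3 := pA_mul a b ha hb
    rw [ha, Bool.true_and] at hBa
    rw [hb, Bool.true_and] at hBb
    rw [h3, Bool.true_and]
    have h1 : a.a12 = true := by simpa using hBa
    have h2 : b.a12 = true := by simpa using hBb
    simp [mul, h1, h2]

/-- case (ii): `X` is contained in `⟨A, x34, x24⟩` -/
theorem case_two (hS : IsPGroup 2 S) (h : Emb S u) (hX : IsEss 2 S X H)
    (hpX : ∀ v, u v ∈ X → v.a23 = false) : h.A ≤ X := by
  refine elem_case hS h hX (fun v => !v.a23) (fun v => pA v && !v.a45)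
    (fun v => (pA v && !v.a12) && (!v.a45 && !v.a13)) c14 ?_ ?_ ?_ ?_ ?_ (by decide) ?_ ?_
  · intro v hv
    simp [hpX v hv]
  · intro a ha
    rw [Bool.and_eq_true] at ha
    exact ha.1
  · intro s a hs ha
    rw [Bool.and_eq_true, pA_iff] at ha
    simp only [Bool.not_eq_true'] at hs ha
    obtain ⟨⟨h1, h2, h3⟩, h4⟩ := ha
    by_cases h5 : ((a.a12 && s.a24) ^^ (a.a13 && s.a34)) = true
    · right
      apply V.ext' <;> simp [cm, h1, h2, h3, h4, hs]
      revert h5
      generalize a.a12 = p; generalize s.a24 = q; generalize a.a13 = r; generalize s.a34 = t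
      revert p q r t
      decide
    · left
      apply V.ext' <;> simp [cm, one, h1, h2, h3, h4, hs]
      revert h5
      generalize a.a12 = p; generalize s.a24 = q; generalize a.a13 = r; generalize s.a34 = t
      revert p q r t
      decide
  · intro s a hs ha
    rw [pA_iff] at ha
    simp only [Bool.not_eq_true'] at hs
    obtain ⟨h1, h2, h3⟩ := ha
    simp [pA, cm, h1, h2, hs]
  · intro s k hs hk
    simp only [Bool.not_eq_true', Bool.and_eq_true, pA_iff] at hs hk
    obtain ⟨⟨⟨h1, h2, h3⟩, h4⟩, h5, h6⟩ := hk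
    apply V.ext' <;> simp [cm, one, h1, h2, h3, h4, h5, h6, hs]
  · intro w hw hwA
    simp only [Bool.not_eq_true'] at hw
    rw [Ne, pA_iff] at hwA
    obtain ⟨w12, w23, w34, w45, w13, w24, w35, w14, w25⟩ := w
    simp only at hw hwA
    subst hw
    rcases w34 with _ | _
    · have h24 : w24 = true := by simpa using hwA
      subst h24
      refine ⟨c12, c45, by decide, by decide, ?_, ?_, ?_⟩
      · intro h1; have := congrArg V.a14 h1; simp [cm, one] at this
      · intro h1; have := congrArg V.a25 h1; simp [cm, one] at this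
      · intro h1; have := congrArg V.a14 h1; simp [cm, one, mul] at this
    · refine ⟨c45, c13, by decide, by decide, ?_, ?_, ?_⟩
      · intro h1; have := congrArg V.a35 h1; simp [cm, one] at this
      · intro h1; have := congrArg V.a14 h1; simp [cm, one] at this
      · intro h1; have := congrArg V.a35 h1; simp [cm, one, mul] at this
  · intro a b ha hb hBa hBb
    have h3 := pA_mul a b ha hb
    rw [ha, Bool.true_and] at hBa
    rw [hb, Bool.true_and] at hBb
    rw [h3, Bool.true_and]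
    have h1 : a.a45 = true := by simpa using hBa
    have h2 : b.a45 = true := by simpa using hBb
    simp [mul, h1, h2]

end

end Cfsg.Agent.H302
end

-- part: H302/Ess2
section
/-!
# Essential subgroups of `UT_5(2)/Z`: the third case, and `A` is strongly closed (helper302)
-/

set_option autoImplicit false

namespace Cfsg.Agent.H302

open Subgroup Cfsg.Agent.Lib.EssDefs Cfsg.Agent.Lib.EssBridge
open Cfsg.Agent.Lib.GoldschmidtFusion (map_conj_le_of_le_normalizer)

universe uu

variable {G : Type uu} [Group G] [Finite G] {S X H : Subgroup G} {u : V → G}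

/-- `g` has at most two conjugates under `X` -/
def PP (X : Subgroup G) (g : G) : Prop := ∃ c : G, ∀ s ∈ X, s * g * s⁻¹ = g ∨ s * g * s⁻¹ = c

omit [Finite G] in
theorem PP_conj {X : Subgroup G} {g n : G} (hn : n ∈ normalizer (X : Set G)) (hg : PP X g) :
    PP X (n * g * n⁻¹) := by
  obtain ⟨c, hc⟩ := hg
  refine ⟨n * c * n⁻¹, fun s hs => ?_⟩
  have hs' : n⁻¹ * s * n ∈ X := (mem_normalizer_iff''.1 hn s).1 hs
  have e : s * (n * g * n⁻¹) * s⁻¹ = n * ((n⁻¹ * s * n) * g * (n⁻¹ * s * n)⁻¹) * n⁻¹ := by group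
  rcases hc _ hs' with h1 | h1
  · left
    rw [e, h1]
  · right
    rw [e, h1]

omit [Finite G] in
theorem closure_conj {T : Set G} {n : G} (hT : ∀ t ∈ T, n * t * n⁻¹ ∈ T) {d : G} (hd : d ∈ closure T) :
    n * d * n⁻¹ ∈ closure T := by
  induction hd using closure_induction with
  | mem x hx => exact subset_closure (hT x hx)
  | one => simp
  | mul x y _ _ hx hy =>
    have : n * (x * y) * n⁻¹ = (n * x * n⁻¹) * (n * y * n⁻¹) := by group
    rw [this]
    exact mul_mem hx hy
  | inv x _ hx =>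
    have : n * x⁻¹ * n⁻¹ = (n * x * n⁻¹)⁻¹ := by group
    rw [this]
    exact inv_mem hx

/-- the subgroup generated by the elements with at most two conjugates -/
def N2 (X : Subgroup G) : Subgroup G := closure {g | g ∈ X ∧ PP X g}
/-- the subgroup generated by their commutators -/
def D2 (X : Subgroup G) : Subgroup G := closure {d | ∃ s g, s ∈ X ∧ g ∈ X ∧ PP X g ∧ d = s * g * s⁻¹ * g⁻¹}

omit [Finite G] in
theorem N2_conj {X : Subgroup G} {n : G} (hn : n ∈ normalizer (X : Set G)) {d : G} (hd : d ∈ N2 X) :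
    n * d * n⁻¹ ∈ N2 X := by
  refine closure_conj ?_ hd
  rintro g ⟨hg, hg'⟩
  exact ⟨(mem_normalizer_iff.1 hn g).1 hg, PP_conj hn hg'⟩

omit [Finite G] in
theorem D2_conj {X : Subgroup G} {n : G} (hn : n ∈ normalizer (X : Set G)) {d : G} (hd : d ∈ D2 X) :
    n * d * n⁻¹ ∈ D2 X := by
  refine closure_conj ?_ hd
  rintro _ ⟨s, g, hs, hg, hg', rfl⟩
  refine ⟨n * s * n⁻¹, n * g * n⁻¹, (mem_normalizer_iff.1 hn s).1 hs, (mem_normalizer_iff.1 hn g).1 hg,
    PP_conj hn hg', ?_⟩
  group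

omit [Finite G] in
theorem N2_le {X : Subgroup G} : N2 X ≤ X := (closure_le _).2 fun _ h => h.1

omit [Finite G] in
theorem D2_le {X : Subgroup G} : D2 X ≤ N2 X := by
  refine (closure_le _).2 ?_
  rintro _ ⟨s, g, hs, hg, hg', rfl⟩
  have hs' : s ∈ normalizer (X : Set G) := le_normalizer hs
  exact mul_mem (N2_conj hs' (subset_closure ⟨hg, hg'⟩)) (inv_mem (subset_closure ⟨hg, hg'⟩))

/-- case (iii): some element of `X` is non-trivial on both -/
theorem case_three (hS : IsPGroup 2 S) (h : Emb S u) (hX : IsEss 2 S X H) {x : V} (hx : u x ∈ X)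
    (h23 : x.a23 = true) (h34 : x.a34 = true) : h.A ≤ X := by
  have hXS := hX.lt.le
  have f2 : Fact (Nat.Prime 2) := ⟨Nat.prime_two⟩
  have hKX : ∀ k, pK k = true → u k ∈ X := fun k hk => K_mem h hX hk
  -- first `I ≤ X`
  have hI : ∀ a, pI a = true → u a ∈ X := by
    intro a ha
    have haN : u a ∈ normalizer (X : Set G) := by
      apply mem_normalizer_of_comm
      intro y hy
      obtain ⟨v, rfl⟩ := h.surj y (hXS hy)
      rw [h.comm]
      exact hKX _ (pK_cm_I ha)
    obtain ⟨D, hD⟩ : ∃ D : ℕ → Subgroup G, D = fun n => if n = 0 then X else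
      if n = 1 then Cfsg.Agent.Hex.SE.omegaZ X else ⊥ := ⟨_, rfl⟩
    refine Cfsg.Agent.Hex.SE.mem_of_chain hS hX D (k := 2) (by rw [hD]; rfl) (by rw [hD]; rfl) ?_ ?_ (h.mem a)
      haN ?_
    · intro i
      rw [hD]
      rcases i with _ | _ | i
      · exact fun v hv => hv.1
      · exact bot_le
      · exact le_rfl
    · intro n hn i d hd
      rw [hD] at hd ⊢
      rcases i with _ | _ | i
      · exact (mem_normalizer_iff.1 hn d).1 hd
      · exact Cfsg.Agent.Hex.SE.omegaZ_conj hn hd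
      · have hd1 : d = 1 := hd
        have : n * d * n⁻¹ = 1 := by rw [hd1]; group
        exact this
    · intro i d hd
      rw [hD] at hd ⊢
      rcases i with _ | _ | i
      · obtain ⟨v, rfl⟩ := h.surj d (hXS hd)
        change u a * u v * (u a)⁻¹ * (u v)⁻¹ ∈ Cfsg.Agent.Hex.SE.omegaZ X
        rw [h.comm]
        have hk : pK (cm a v) = true := pK_cm_I ha
        refine ⟨hKX _ hk, ?_, ?_⟩
        · rw [mem_centralizer_iff]
          intro y hy
          obtain ⟨w, rfl⟩ := h.surj y (hXS hy)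
          exact h.commute (cm_K hk)
        · rw [← h.mul, mul_self_A _ ?_, h.one]
          rw [pA_iff]
          rw [pK_iff] at hk
          exact ⟨hk.1, hk.2.1, hk.2.2.1⟩
      · have hd' : d ∈ Cfsg.Agent.Hex.SE.omegaZ X := hd
        obtain ⟨hdX, hdC, hd2⟩ := hd'
        obtain ⟨w, rfl⟩ := h.surj d (hXS hdX)
        change u a * u w * (u a)⁻¹ * (u w)⁻¹ = 1
        have h1 : cD (dp x) (dp w) = true :=
          cD_of_comm ((h.commute_iff x w).1 (mem_centralizer_iff.1 hdC _ hx))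
        have h2 : H302.mul w w = H302.one := by
          apply h.inj
          rw [h.mul, h.one]
          exact hd2
        have h3 := congrArg V.a24 h2
        simp only [cD, dp, h23, h34, Bool.true_and, Bool.and_true, beq_iff_eq] at h1
        simp only [mul, H302.one, Bool.xor_self, Bool.false_xor] at h3
        rw [h1, Bool.and_self] at h3
        rw [h.comm, cm_IM ha h3 (h1.trans h3), h.one]
      · have hd1 : d = 1 := hd
        have : u a * d * (u a)⁻¹ * d⁻¹ = 1 := by rw [hd1]; group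
        exact this
  have hxx : u (mul x x) ∈ X := by
    rw [h.mul]
    exact mul_mem hx hx
  have hc13 : u c13 ∈ X := hI _ (by decide)
  have hc35 : u c35 ∈ X := hI _ (by decide)
  -- the elements of `N2 X` have codes in `M`
  have hNM : N2 X ≤ h.M := by
    refine (closure_le _).2 ?_
    rintro g ⟨hg, c, hc⟩
    obtain ⟨w, rfl⟩ := h.surj g (hXS hg)
    rw [SetLike.mem_coe, h.mem_M]
    by_contra hcon
    obtain ⟨s, s', hs, hs', n1, n2, n3⟩ := exists_two h23 h34 hcon
    have hmem : ∀ s : V, (s = x ∨ s = mul x x ∨ s = c13 ∨ s = c35) → u s ∈ X := by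
      rintro s (rfl | rfl | rfl | rfl)
      exacts [hx, hxx, hc13, hc35]
    have key : ∀ s : V, (s = x ∨ s = mul x x ∨ s = c13 ∨ s = c35) → cm s w ≠ H302.one →
        u (cm s w) * u w = c := by
      intro s hs hn
      have h1 := hc _ (hmem s hs)
      have h2 := h.comm s w
      have h3 : u s * u w * (u s)⁻¹ = u (cm s w) * u w := by rw [← h2]; group
      rw [h3] at h1
      refine h1.resolve_left fun h4 => hn (h.inj ?_)
      rw [h.one]
      exact mul_eq_right.1 h4
    apply n3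
    apply h.inj
    exact mul_right_cancel ((key s hs n1).trans (key s' hs' n2).symm)
  -- elements of `I` with few conjugates
  have hPI : ∀ v, pI v = true → (v.a13 = false ∨ v.a35 = false) → PP X (u v) := by
    intro v hv hv'
    rw [pI_iff] at hv
    obtain ⟨h1, h2, h3, h4, h5⟩ := hv
    rcases hv' with h6 | h6
    · refine ⟨u c25 * u v, fun s hs => ?_⟩
      obtain ⟨s, rfl⟩ := h.surj s (hXS hs)
      have e : u s * u v * (u s)⁻¹ = u (cm s v) * u v := by rw [← h.comm s v]; group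
      rw [e]
      by_cases h7 : (s.a23 && v.a35) = true
      · right
        congr 2
        apply V.ext' <;> simp [cm, h1, h2, h3, h4, h5, h6]
        simpa using h7
      · left
        have : cm s v = H302.one := by
          apply V.ext' <;> simp [cm, H302.one, h1, h2, h3, h4, h5, h6]
          simpa using h7
        rw [this, h.one, one_mul]
    · refine ⟨u c14 * u v, fun s hs => ?_⟩
      obtain ⟨s, rfl⟩ := h.surj s (hXS hs)
      have e : u s * u v * (u s)⁻¹ = u (cm s v) * u v := by rw [← h.comm s v]; group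
      rw [e]
      by_cases h7 : (v.a13 && s.a34) = true
      · right
        congr 2
        apply V.ext' <;> simp [cm, h1, h2, h3, h4, h5, h6]
        simpa using h7
      · left
        have : cm s v = H302.one := by
          apply V.ext' <;> simp [cm, H302.one, h1, h2, h3, h4, h5, h6]
          simpa using h7
        rw [this, h.one, one_mul]
  have hIN : ∀ a, pI a = true → u a ∈ N2 X := by
    have h1 : ∀ v, pI v = true → (v.a13 = false ∨ v.a35 = false) → u v ∈ N2 X :=
      fun v hv hv' => subset_closure ⟨hI v hv, hPI v hv hv'⟩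
    intro v hv
    by_cases hv' : v.a13 = false ∨ v.a35 = false
    · exact h1 v hv hv'
    · push Not at hv'
      have e : v = mul c13 (mul c13 v) := by
        rw [pI_iff] at hv
        obtain ⟨h1, h2, h3, h4, h5⟩ := hv
        apply V.ext' <;> simp [mul, h1, h2, h3, h4, h5]
      rw [e, h.mul]
      refine mul_mem (h1 _ (by decide) (Or.inr rfl)) (h1 _ (pI_mul _ _ (by decide) hv) (Or.inl ?_))
      simp [mul, hv'.1]
  have hKD : ∀ k, pK k = true → u k ∈ D2 X := by
    have h1 : u c14 ∈ D2 X := by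
      refine subset_closure ⟨u x, u c13, hx, hc13, hPI _ (by decide) (Or.inr rfl), ?_⟩
      rw [h.comm]
      congr 1
      apply V.ext' <;> simp [cm, h34]
    have h2 : u c25 ∈ D2 X := by
      refine subset_closure ⟨u x, u c35, hx, hc35, hPI _ (by decide) (Or.inl rfl), ?_⟩
      rw [h.comm]
      congr 1
      apply V.ext' <;> simp [cm, h23]
    intro k hk
    rw [pK_iff] at hk
    obtain ⟨k12, k23, k34, k45, k13, k24, k35, k14, k25⟩ := k
    simp only at hk
    obtain ⟨rfl, rfl, rfl, rfl, rfl, rfl, rfl⟩ := hk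
    rcases k14 with _ | _ <;> rcases k25 with _ | _
    · have : u H302.one ∈ D2 X := by rw [h.one]; exact one_mem _
      exact this
    · exact h2
    · exact h1
    · have : u (mul c14 c25) ∈ D2 X := by rw [h.mul]; exact mul_mem h1 h2
      exact this
  have hDK : D2 X ≤ h.K := by
    refine (closure_le _).2 ?_
    rintro _ ⟨s, g, hs, hg, hg', rfl⟩
    obtain ⟨s, rfl⟩ := h.surj s (hXS hs)
    obtain ⟨g, rfl⟩ := h.surj g (hXS hg)
    rw [h.comm, SetLike.mem_coe, h.mem_K]
    exact pK_cm_M (h.mem_M.1 (hNM (subset_closure ⟨hg, hg'⟩)))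
  rintro _ ⟨a, ha, rfl⟩
  have haN : u a ∈ normalizer (X : Set G) := by
    apply mem_normalizer_of_comm
    intro y hy
    obtain ⟨v, rfl⟩ := h.surj y (hXS hy)
    rw [h.comm]
    exact hI _ (pI_cm_A ha)
  obtain ⟨D, hD⟩ : ∃ D : ℕ → Subgroup G, D = fun n => if n = 0 then X else
    if n = 1 then N2 X else if n = 2 then D2 X else ⊥ := ⟨_, rfl⟩
  refine Cfsg.Agent.Hex.SE.mem_of_chain hS hX D (k := 3) (by rw [hD]; rfl) (by rw [hD]; rfl) ?_ ?_ (h.mem a)
    haN ?_
  · intro i
    rw [hD]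
    rcases i with _ | _ | _ | i
    · exact N2_le
    · exact D2_le
    · exact bot_le
    · exact le_rfl
  · intro n hn i d hd
    rw [hD] at hd ⊢
    rcases i with _ | _ | _ | i
    · exact (mem_normalizer_iff.1 hn d).1 hd
    · exact N2_conj hn hd
    · exact D2_conj hn hd
    · have hd1 : d = 1 := hd
      have : n * d * n⁻¹ = 1 := by rw [hd1]; group
      exact this
  · intro i d hd
    rw [hD] at hd ⊢
    rcases i with _ | _ | _ | i
    · obtain ⟨v, rfl⟩ := h.surj d (hXS hd)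
      change u a * u v * (u a)⁻¹ * (u v)⁻¹ ∈ N2 X
      rw [h.comm]
      exact hIN _ (pI_cm_A ha)
    · have hd' : d ∈ N2 X := hd
      obtain ⟨w, rfl⟩ := h.surj d (hXS (N2_le hd'))
      change u a * u w * (u a)⁻¹ * (u w)⁻¹ ∈ D2 X
      rw [h.comm]
      exact hKD _ (pK_cm_M (h.mem_M.1 (hNM hd')))
    · have hd' : d ∈ D2 X := hd
      obtain ⟨w, hw, rfl⟩ := hDK hd'
      change u a * u w * (u a)⁻¹ * (u w)⁻¹ = 1
      rw [h.comm, cm_K hw, h.one]
    · have hd1 : d = 1 := hd
      have : u a * d * (u a)⁻¹ * d⁻¹ = 1 := by rw [hd1]; group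
      exact this

/-- **every essential subgroup contains `A`** -/
theorem A_le_of_ess (hS : IsPGroup 2 S) (h : Emb S u) (hX : IsEss 2 S X H) : h.A ≤ X := by
  by_cases h1 : ∀ v, u v ∈ X → v.a34 = false
  · exact case_one hS h hX h1
  by_cases h2 : ∀ v, u v ∈ X → v.a23 = false
  · exact case_two hS h hX h2
  push Not at h1 h2
  obtain ⟨v, hv, hv34⟩ := h1
  obtain ⟨w, hw, hw23⟩ := h2
  rw [Bool.ne_false_iff] at hv34 hw23
  by_cases h3 : v.a23 = true
  · exact case_three hS h hX hv h3 hv34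
  by_cases h4 : w.a34 = true
  · exact case_three hS h hX hw hw23 h4
  have h5 : u (mul v w) ∈ X := by
    rw [h.mul]
    exact mul_mem hv hw
  rw [Bool.not_eq_true] at h3 h4
  exact case_three hS h hX h5 (by simp [mul, h3, hw23]) (by simp [mul, hv34, h4])

omit [Finite G] in
theorem Emb.conj_A (h : Emb S u) {g : G} (hg : h.A.map (MulAut.conj g).toMonoidHom ≤ S) :
    h.A.map (MulAut.conj g).toMonoidHom = h.A := by
  apply h.unique hg
  · have hc := h.A_comm
    infer_instance
  · rw [Subgroup.card_map_of_injective (MulAut.conj g).injective, h.card_A]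

omit [Finite G] in
theorem Emb.conj_mem_A (h : Emb S u) {g : G} (hg : h.A.map (MulAut.conj g).toMonoidHom ≤ S) {a : G}
    (ha : a ∈ h.A) : g * a * g⁻¹ ∈ h.A := by
  have h1 : g * a * g⁻¹ ∈ h.A.map (MulAut.conj g).toMonoidHom := ⟨a, ha, rfl⟩
  rwa [h.conj_A hg] at h1

/-- **`A` is strongly closed** -/
theorem Emb.isStronglyClosed (T : Sylow 2 G) (h : Emb (T : Subgroup G) u) :
    Cfsg.IsStronglyClosed h.A (T : Subgroup G) := by
  have f2 : Fact (Nat.Prime 2) := ⟨Nat.prime_two⟩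
  refine ⟨h.A_le, fun x hx g hg => ?_⟩
  set F : Subgroup G → Prop := fun X => X = (T : Subgroup G) ∨ Cfsg.Agent.Lib.EssDefs.Ess 2 (T : Subgroup G) X
    with hF
  have h1 := gen_of_conj T F (Or.inl rfl) (fun X hX => Or.inr hX) (A := zpowers x)
    (by rw [zpowers_le]; exact h.A_le hx) (g := g) (by
      rintro _ ⟨y, hy, rfl⟩
      obtain ⟨k, rfl⟩ := hy
      change g * x ^ k * g⁻¹ ∈ (T : Subgroup G)
      rw [← conj_zpow]
      exact zpow_mem hg k)
  have key : ∀ X : Subgroup G, F X → ∀ g ∈ normalizer (X : Set G), ∀ a ∈ h.A, g * a * g⁻¹ ∈ h.A := by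
    rintro X (rfl | ⟨H, hX⟩) g hg a ha
    · refine h.conj_mem_A ?_ ha
      rintro _ ⟨b, hb, rfl⟩
      exact (mem_normalizer_iff.1 hg b).1 (h.A_le hb)
    · have hle := A_le_of_ess T.2 h hX
      refine h.conj_mem_A ?_ ha
      rintro _ ⟨b, hb, rfl⟩
      exact hX.lt.le ((mem_normalizer_iff.1 hg b).1 (hle hb))
  have h2 := h1.invariant (fun x => x ∈ h.A) (fun X _ hX g hg x _ => by
    apply propext
    constructor
    · intro h3
      have h4 := key X hX g⁻¹ (inv_mem hg) _ h3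
      have e : g⁻¹ * (g * x * g⁻¹) * g⁻¹⁻¹ = x := by group
      rwa [e] at h4
    · intro h3
      exact key X hX g hg x h3) x (mem_zpowers x)
  exact h2.symm ▸ hx

end Cfsg.Agent.H302
end

-- part: H302/NCCodes
section
/-!
# Code facts used for the layer (helper302)
-/

set_option autoImplicit false

namespace Cfsg.Agent.H302

open Subgroup

abbrev c23 : V := ⟨false, true, false, false, false, false, false, false, false⟩
abbrev c34 : V := ⟨false, false, true, false, false, false, false, false, false⟩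
abbrev c24 : V := ⟨false, false, false, false, false, true, false, false, false⟩

theorem dp_half {w w' : V} (h1 : ∀ a, pA a = true → ∃ a', pA a' = true ∧ cm w' a' = cm w a)
    (h2 : ∀ a, pA a = true → cm w (cm w a) = one) (h3 : ∀ a, pA a = true → cm w' (cm w a) = one) :
    (w.a23 = true → dp w = dp w') ∧ (w.a34 = true → dp w = dp w') ∧ (w.a24 = true → dp w' ≠ d0) := by
  obtain ⟨s12, s23, s34, s45, s13, s24, s35, s14, s25⟩ := w
  obtain ⟨t12, t23, t34, t45, t13, t24, t35, t14, t25⟩ := w'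
  refine ⟨fun hs => ?_, fun hs => ?_, fun hs => ?_⟩
  · simp only at hs
    subst hs
    have e1 := congrArg V.a14 (h2 c12 (by decide))
    have e2 := congrArg V.a14 (h3 c12 (by decide))
    simp [cm, one] at e1 e2
    subst e1 e2
    obtain ⟨a, ha, ha'⟩ := h1 c12 (by decide)
    obtain ⟨b12, b23, b34, b45, b13, b24, b35, b14, b25⟩ := a
    rw [pA_iff] at ha
    simp only at ha
    obtain ⟨rfl, rfl, rfl⟩ := ha
    have e3 := congrArg V.a13 ha'
    have e4 := congrArg V.a14 ha'
    simp [cm] at e3 e4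
    obtain ⟨rfl, rfl⟩ := e3
    simp at e4
    simp [dp, e4]
  · simp only at hs
    subst hs
    have e1 := congrArg V.a25 (h2 c45 (by decide))
    have e2 := congrArg V.a25 (h3 c45 (by decide))
    simp [cm, one] at e1 e2
    subst e1 e2
    obtain ⟨a, ha, ha'⟩ := h1 c45 (by decide)
    obtain ⟨b12, b23, b34, b45, b13, b24, b35, b14, b25⟩ := a
    rw [pA_iff] at ha
    simp only at ha
    obtain ⟨rfl, rfl, rfl⟩ := ha
    have e3 := congrArg V.a35 ha'
    have e4 := congrArg V.a25 ha'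
    simp [cm] at e3 e4
    obtain ⟨rfl, rfl⟩ := e3
    simp at e4
    simp [dp, e4]
  · intro h4
    simp only at hs
    subst hs
    simp only [dp, d0, Prod.mk.injEq] at h4
    obtain ⟨rfl, rfl, rfl⟩ := h4
    have e1 := congrArg V.a14 (h2 c12 (by decide))
    simp [cm, one] at e1
    obtain ⟨a, ha, ha'⟩ := h1 c12 (by decide)
    obtain ⟨b12, b23, b34, b45, b13, b24, b35, b14, b25⟩ := a
    rw [pA_iff] at ha
    simp only at ha
    obtain ⟨rfl, rfl, rfl⟩ := ha
    have e3 := congrArg V.a13 ha'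
    have e4 := congrArg V.a14 ha'
    simp [cm] at e3 e4
    subst e3
    simp at e4

theorem dp_eq {w w' : V} (h1 : ∀ a, pA a = true → ∃ a', pA a' = true ∧ cm w' a' = cm w a)
    (h1' : ∀ a, pA a = true → ∃ a', pA a' = true ∧ cm w a' = cm w' a)
    (h2 : ∀ a, pA a = true → cm w (cm w a) = one) (h3 : ∀ a, pA a = true → cm w' (cm w a) = one)
    (h2' : ∀ a, pA a = true → cm w' (cm w' a) = one) (h3' : ∀ a, pA a = true → cm w (cm w' a) = one) :
    dp w = dp w' := by
  obtain ⟨k1, k2, k3⟩ := dp_half h1 h2 h3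
  obtain ⟨l1, l2, l3⟩ := dp_half h1' h2' h3'
  by_contra hne
  have n1 : w.a23 = false := by
    rw [← Bool.not_eq_true]
    exact fun h => hne (k1 h)
  have n2 : w.a34 = false := by
    rw [← Bool.not_eq_true]
    exact fun h => hne (k2 h)
  have n3 : w'.a23 = false := by
    rw [← Bool.not_eq_true]
    exact fun h => hne (l1 h).symm
  have n4 : w'.a34 = false := by
    rw [← Bool.not_eq_true]
    exact fun h => hne (l2 h).symm
  rcases h5 : w.a24 with _ | _ <;> rcases h6 : w'.a24 with _ | _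
  · exact hne (by simp [dp, n1, n2, n3, n4, h5, h6])
  · exact l3 h6 (by simp [dp, n1, n2, h5])
  · exact k3 h5 (by simp [dp, n3, n4, h6])
  · exact hne (by simp [dp, n1, n2, n3, n4, h5, h6])

theorem pA_of_dp {w w' : V} (h : dp w = dp w') : pA (mul (iv w) w') = true := by
  obtain ⟨s12, s23, s34, s45, s13, s24, s35, s14, s25⟩ := w
  obtain ⟨t12, t23, t34, t45, t13, t24, t35, t14, t25⟩ := w'
  simp only [dp, Prod.mk.injEq] at h
  obtain ⟨rfl, rfl, rfl⟩ := h
  simp only [pA, mul, iv]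
  revert s23 s34 s24
  decide

variable {G : Type*} [Group G] {S : Subgroup G} {u : V → G}

theorem Emb.inv_mul_mem_A (h : Emb S u) {w w' : V} (hd : dp w = dp w') : (u w)⁻¹ * u w' ∈ h.A := by
  rw [h.inv, ← h.mul, h.mem_A]
  exact pA_of_dp hd

theorem Emb.self_cent (h : Emb S u) {s : G} (hs : s ∈ S) (hc : ∀ a ∈ h.A, s * a = a * s) : s ∈ h.A := by
  obtain ⟨w, rfl⟩ := h.surj s hs
  have hc' : ∀ a, pA a = true → cm w a = H302.one := fun a ha => h.cm_of_commute (hc _ (h.mem_A.2 ha))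
  have e1 := congrArg V.a13 (hc' c12 (by decide))
  have e2 := congrArg V.a14 (hc' c12 (by decide))
  have e3 := congrArg V.a35 (hc' c45 (by decide))
  simp [cm, H302.one] at e1 e2 e3
  rw [h.mem_A, pA_iff]
  simp [e1] at e2
  exact ⟨e1, e3, e2⟩

/-- `[t, A] ≤ Z(S)` for `t` with image `(0, 0, 1)` -/
theorem pK_cm_A {t a : V} (ht : dp t = (false, false, true)) (ha : pA a = true) : pK (cm t a) = true := by
  rw [pA_iff] at ha
  obtain ⟨h1, h2, h3⟩ := ha
  simp only [dp, Prod.mk.injEq] at ht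
  obtain ⟨k1, k2, k3⟩ := ht
  rw [pK_iff]
  simp [cm, h1, h2, h3, k1, k2]

theorem pI_of_comm {t a : V} (ht : dp t = (false, false, true)) (ha : pA a = true) (h : cm t a = one) :
    pI a = true := by
  rw [pA_iff] at ha
  obtain ⟨h1, h2, h3⟩ := ha
  simp only [dp, Prod.mk.injEq] at ht
  obtain ⟨k1, k2, k3⟩ := ht
  have e1 := congrArg V.a14 h
  have e2 := congrArg V.a25 h
  simp [cm, one, h1, h2, h3, k1, k2, k3] at e1 e2
  rw [pI_iff]
  exact ⟨h1, h2, h3, e1, e2⟩

theorem cm_of_pI {t a : V} (ht : dp t = (false, false, true)) (ha : pI a = true) : cm t a = one := by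
  rw [pI_iff] at ha
  obtain ⟨h1, h2, h3, h4, h5⟩ := ha
  simp only [dp, Prod.mk.injEq] at ht
  obtain ⟨k1, k2, k3⟩ := ht
  apply V.ext' <;> simp [cm, one, h1, h2, h3, h4, h5, k1, k2]

end Cfsg.Agent.H302
end

-- part: H302/OddStep
section
/-!
# An involution normalising a transitive group of odd order (helper302)

`odd_step`: `B` an elementary abelian subgroup, `t` and `n` normalise `B`, `t²` centralises `B`, and an odd power of
`[t, n]` centralises `B`. If `a ∈ B` is fixed by `t` and is conjugate by `n` to a commutator `[t, b]`, then `a`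
is itself a commutator `[t, b']`.
-/

set_option autoImplicit false

namespace Cfsg.Agent.H302

open Subgroup

theorem dihedral_conj {M : Type*} [Group M] (τ τ' : M) (h1 : τ * τ = 1) (h2 : τ' * τ' = 1) (j : ℕ)
    (hr : (τ * τ') ^ (2 * j + 1) = 1) : (τ * τ') ^ j * τ * ((τ * τ') ^ j)⁻¹ = τ' := by
  have i1 : τ⁻¹ = τ := inv_eq_of_mul_eq_one_left h1
  have i2 : τ'⁻¹ = τ' := inv_eq_of_mul_eq_one_left h2
  have e1 : ∀ k : ℕ, τ * ((τ * τ') ^ k)⁻¹ = (τ * τ') ^ k * τ := by
    intro k
    induction k with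
    | zero => simp
    | succ k ih =>
      calc τ * ((τ * τ') ^ (k + 1))⁻¹ = τ * ((τ * τ') * (τ * τ') ^ k)⁻¹ := by rw [pow_succ']
        _ = (τ * ((τ * τ') ^ k)⁻¹) * (τ'⁻¹ * τ⁻¹) := by rw [mul_inv_rev, mul_inv_rev, mul_assoc]
        _ = (τ * τ') ^ k * τ * (τ' * τ) := by rw [ih, i1, i2]
        _ = (τ * τ') ^ (k + 1) * τ := by rw [pow_succ]; group
  rw [mul_assoc, e1, ← mul_assoc, ← pow_add]
  have e2 : (τ * τ') ^ (j + j) * (τ * τ') = 1 := by
    rw [← pow_succ, ← hr]
    congr 1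
    omega
  have e3 : (τ * τ') ^ (j + j) = τ' * τ := by
    rw [eq_inv_of_mul_eq_one_left e2, mul_inv_rev, i1, i2]
  rw [e3, mul_assoc, h1, mul_one]

theorem odd_aut {B : Type*} [Group B] (τ τ' : MulAut B) (h1 : τ * τ = 1) (h2 : τ' * τ' = 1) (j : ℕ)
    (hr : (τ * τ') ^ (2 * j + 1) = 1) {a b : B} (ha : τ a = a) (ha' : τ' a = a) (hb : a = τ' b * b⁻¹) :
    ∃ b1 : B, a = τ b1 * b1⁻¹ := by
  have h3 := dihedral_conj τ τ' h1 h2 j hr
  have h4 : ∀ k : ℕ, ((τ * τ') ^ k) a = a := by
    intro k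
    induction k with
    | zero => rfl
    | succ k ih =>
      rw [pow_succ, MulAut.mul_apply, MulAut.mul_apply, ha', ha, ih]
  have h5 : (((τ * τ') ^ j)⁻¹) a = a := by
    have h6 := congrArg (fun x => ((((τ * τ') ^ j)⁻¹ : MulAut B)) x) (h4 j)
    have h7 : ((((τ * τ') ^ j)⁻¹ : MulAut B)) (((τ * τ') ^ j) a) = a := MulAut.inv_apply_self _ _ _
    exact h6.symm.trans h7
  refine ⟨(((τ * τ') ^ j)⁻¹) b, ?_⟩
  have h6 : τ ((((τ * τ') ^ j)⁻¹) b) = (((τ * τ') ^ j)⁻¹) (τ' b) := by
    have h7 : (((τ * τ') ^ j)⁻¹) * τ' = τ * ((τ * τ') ^ j)⁻¹ := by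
      nth_rewrite 2 [← h3]
      group
    have h8 := congrArg (fun f : MulAut B => f b) h7
    exact h8.symm
  rw [h6, ← map_inv, ← map_mul, ← hb]
  exact h5.symm

theorem odd_step {X : Type*} [Group X] {B : Subgroup X} (hsq : ∀ x ∈ B, x * x = 1)
    (hcomm : ∀ x ∈ B, ∀ y ∈ B, x * y = y * x) {t n : X}
    (ht : t ∈ normalizer (B : Set X)) (hn : n ∈ normalizer (B : Set X))
    (htt : t * t ∈ centralizer (B : Set X)) {j : ℕ}
    (hr : (t * n * t⁻¹ * n⁻¹) ^ (2 * j + 1) ∈ centralizer (B : Set X)) {a b : X} (ha : a ∈ B) (hb : b ∈ B)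
    (hta : t * a = a * t) (hn' : n * (t * b * t⁻¹ * b⁻¹) * n⁻¹ = a) :
    ∃ b1 ∈ B, a = t * b1 * t⁻¹ * b1⁻¹ := by
  have hnt : n * t * n⁻¹ ∈ normalizer (B : Set X) := mul_mem (mul_mem hn ht) (inv_mem hn)
  set φ := B.normalizerMonoidHom with hφ
  have hφc : ∀ y : normalizer (B : Set X), (y : X) ∈ centralizer (B : Set X) → φ y = 1 := by
    intro y hy
    have h1 : y ∈ φ.ker := by
      rw [hφ, normalizerMonoidHom_ker]
      exact hy
    exact h1
  have hφa : ∀ (y : normalizer (B : Set X)) (x : B), ((φ y x : B) : X) = y * x * (y : X)⁻¹ := fun y x => rfl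
  set τ := φ ⟨t, ht⟩ with hτ
  set τ' := φ ⟨n * t * n⁻¹, hnt⟩ with hτ'
  have h1 : τ * τ = 1 := by
    rw [hτ, ← map_mul]
    exact hφc _ htt
  have h2 : τ' * τ' = 1 := by
    rw [hτ', ← map_mul]
    apply hφc
    have e : n * t * n⁻¹ * (n * t * n⁻¹) = n * (t * t) * n⁻¹ := by group
    change n * t * n⁻¹ * (n * t * n⁻¹) ∈ centralizer (B : Set X)
    rw [e, mem_centralizer_iff]
    intro x hx
    have h3 : n⁻¹ * x * n ∈ B := (mem_normalizer_iff''.1 hn x).1 hx
    have h4 := mem_centralizer_iff.1 htt _ h3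
    calc x * (n * (t * t) * n⁻¹) = n * (n⁻¹ * x * n * (t * t)) * n⁻¹ := by group
      _ = n * (t * t * (n⁻¹ * x * n)) * n⁻¹ := by rw [h4]
      _ = n * (t * t) * n⁻¹ * x := by group
  have h3 : (τ * τ') ^ (2 * j + 1) = 1 := by
    have e1 : τ * τ' = φ ⟨t * n * t⁻¹ * n⁻¹, mul_mem (mul_mem (mul_mem ht hn) (inv_mem ht)) (inv_mem hn)⟩ := by
      have e2 : τ * τ' = φ (⟨t, ht⟩ * ⟨n, hn⟩ * ⟨t, ht⟩ * ⟨n, hn⟩⁻¹) := by
        rw [hτ, hτ', ← map_mul]
        congr 1
        apply Subtype.ext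
        change t * (n * t * n⁻¹) = t * n * t * n⁻¹
        group
      have e3 : (⟨t * n * t⁻¹ * n⁻¹, mul_mem (mul_mem (mul_mem ht hn) (inv_mem ht)) (inv_mem hn)⟩ :
          normalizer (B : Set X)) = ⟨t, ht⟩ * ⟨n, hn⟩ * ⟨t, ht⟩⁻¹ * ⟨n, hn⟩⁻¹ := rfl
      have e4 : τ⁻¹ = τ := inv_eq_of_mul_eq_one_left h1
      rw [e2, e3, map_mul, map_mul, map_mul, map_mul, map_mul, map_mul, map_inv φ ⟨t, ht⟩, ← hτ, e4]
    rw [e1, ← map_pow]
    exact hφc _ hr
  have hta' : τ ⟨a, ha⟩ = ⟨a, ha⟩ := by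
    apply Subtype.ext
    rw [hτ, hφa]
    change t * a * t⁻¹ = a
    rw [hta, mul_inv_cancel_right]
  have hnb : n * b * n⁻¹ ∈ B := (mem_normalizer_iff.1 hn b).1 hb
  have hb' : (⟨a, ha⟩ : B) = τ' ⟨n * b * n⁻¹, hnb⟩ * ⟨n * b * n⁻¹, hnb⟩⁻¹ := by
    apply Subtype.ext
    change a = ((τ' ⟨n * b * n⁻¹, hnb⟩ : B) : X) * (n * b * n⁻¹)⁻¹
    rw [hτ', hφa, ← hn']
    change n * (t * b * t⁻¹ * b⁻¹) * n⁻¹ = n * t * n⁻¹ * (n * b * n⁻¹) * (n * t * n⁻¹)⁻¹ * (n * b * n⁻¹)⁻¹
    group
  have hta'' : τ' ⟨a, ha⟩ = ⟨a, ha⟩ := by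
    have h4 : ∀ x : B, τ' (τ' x) = x := fun x => congrArg (fun f : MulAut B => f x) h2
    have h5 : ∀ x y : B, x * y = y * x := fun x y => Subtype.ext (hcomm x x.2 y y.2)
    have h6 : ∀ x : B, x⁻¹ = x := fun x => inv_eq_of_mul_eq_one_left (Subtype.ext (hsq x x.2))
    rw [hb', map_mul, h4, map_inv, h6, h6, h5]
  obtain ⟨b1, hb1⟩ := odd_aut τ τ' h1 h2 j h3 hta' hta'' hb'
  refine ⟨b1, b1.2, ?_⟩
  have h4 := congrArg (Subtype.val) hb1
  exact h4

end Cfsg.Agent.H302
end

-- part: H302/NoComp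
section
/-!
# No components (helper302)

`layer_eq_bot`: a group with trivial odd core whose Sylow 2-subgroup is `UT_5(2)/Z` has no components.
-/

set_option autoImplicit false
set_option linter.unusedSectionVars false

namespace Cfsg.Agent.H302.NC

open Subgroup Cfsg Cfsg.Agent.H302
open Cfsg.Agent.SignalizersComponents
open Cfsg.Agent.SignalizersComponents.Components
open Cfsg.Agent.SignalizersComponents.ComponentExists (layer_eq_bot_iff)
open Cfsg.Agent.SylowL.CompFacts
open Cfsg.Agent.SylowL.NoComp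
open Cfsg.Agent.HexGlob.CompTools

universe u

variable {X : Type u} [Group X] [Finite X] {T : Sylow 2 X} {K : Subgroup X} {u : V → X}

/-- the data of this section -/
structure Dat (T : Sylow 2 X) (K : Subgroup X) (u : V → X) : Prop where
  emb : Emb (T : Subgroup X) u
  gold : GoldHyp.{u}
  core : Cfsg.oddCore X = ⊥
  comp : Cfsg.IsComponent K

namespace Dat

variable (d : Dat T K u)

include d

theorem sc : Cfsg.IsStronglyClosed d.emb.A (T : Subgroup X) := d.emb.isStronglyClosed T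

theorem cA {a b : X} (ha : a ∈ d.emb.A) (hb : b ∈ d.emb.A) : a * b = b * a :=
  elem_comm d.emb.A_elem ha hb

theorem not_le : ¬ K ≤ centralizer (d.emb.A : Set X) :=
  not_le_centralizer d.core T (fun _ hs hc => d.emb.self_cent hs hc) d.comp

theorem split {a : X} (ha : a ∈ d.emb.A) :
    ∃ v ∈ d.emb.A ⊓ K, ∃ c ∈ d.emb.A ⊓ centralizer (K : Set X), a = v * c :=
  d.gold.inner X d.core T d.emb.A d.emb.A_elem d.sc K d.comp d.not_le a ha

theorem exists_nc : ∃ v ∈ d.emb.A ⊓ K, v ∉ centralizer (K : Set X) :=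
  exists_not_central d.gold d.core d.emb.A_elem d.sc d.comp d.not_le

/-- `A` normalises `K` -/
theorem A_norm : d.emb.A ≤ normalizer (K : Set X) := by
  intro a ha
  obtain ⟨v, hv, c, hc, rfl⟩ := d.split ha
  exact mul_mem (le_normalizer hv.2) (centralizer_le_normalizer _ hc.2)

/-- commutators of `A` with elements of `T ∩ K` centralise `K` -/
theorem comm_split {k : X} (hkK : k ∈ K) {v c : X} (hc : c ∈ centralizer (K : Set X)) :
    k * (v * c) * k⁻¹ * (v * c)⁻¹ = k * v * k⁻¹ * v⁻¹ := by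
  have h3 : k * c = c * k := mem_centralizer_iff.1 hc k hkK
  calc k * (v * c) * k⁻¹ * (v * c)⁻¹ = k * v * (c * k⁻¹) * c⁻¹ * v⁻¹ := by group
    _ = k * v * (k⁻¹ * (k * c) * k⁻¹) * c⁻¹ * v⁻¹ := by group
    _ = k * v * (k⁻¹ * (c * k) * k⁻¹) * c⁻¹ * v⁻¹ := by rw [h3]
    _ = k * v * k⁻¹ * v⁻¹ := by group

theorem comm_mem {k : X} (hk : k ∈ (T : Subgroup X) ⊓ K) {a : X} (ha : a ∈ d.emb.A) :
    k * a * k⁻¹ * a⁻¹ ∈ centralizer (K : Set X) := by
  obtain ⟨v, hv, c, hc, rfl⟩ := d.split ha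
  rw [d.comm_split hk.2 hc.2]
  exact commutator_mem d.gold d.core d.emb.A_elem d.sc d.comp d.not_le hv hk

/-- **Step 2** -/
theorem le_A : (T : Subgroup X) ⊓ K ≤ d.emb.A := by
  have ctx : Ctx K := ⟨d.core, d.comp⟩
  refine ctx.focal T ?_
  intro k hk g hg hgk
  have : Fact (Nat.Prime 2) := ⟨Nat.prime_two⟩
  obtain ⟨R, hR⟩ := ctx.exists_sylow T
  have hRm : ∀ y : K, y ∈ (R : Subgroup K) ↔ (y : X) ∈ (T : Subgroup X) := fun y => by
    rw [hR, mem_subgroupOf]
  -- control of fusion in `K`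
  obtain ⟨n, hnA, hnk⟩ : ∃ n ∈ K, (∀ v ∈ d.emb.A ⊓ K, n * v * n⁻¹ ∈ d.emb.A ⊓ K) ∧
      (∀ v ∈ d.emb.A ⊓ K, n⁻¹ * v * n ∈ d.emb.A ⊓ K) ∧ n * k * n⁻¹ = g * k * g⁻¹ := by
    obtain ⟨n, hn, hn'⟩ := Cfsg.Agent.SylowL5.Ctrl.strong_control R (d.emb.A.subgroupOf K)
      (fun x hx => (hRm x).2 (d.emb.A_le hx))
      (fun a ha b hb => Subtype.ext (d.cA ha hb))
      (fun a ha y hy => d.sc.2 a ha y ((hRm _).1 hy))
      (D := zpowers ⟨k, hk.2⟩) (by
        rw [zpowers_le]
        exact (hRm _).2 hk.1) (g := ⟨g, hg⟩) (by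
        rintro _ ⟨y, hy, rfl⟩
        obtain ⟨i, rfl⟩ := hy
        refine (hRm _).2 ?_
        change g * (((⟨k, hk.2⟩ : K) ^ i : K) : X) * g⁻¹ ∈ (T : Subgroup X)
        rw [Subgroup.coe_zpow, ← conj_zpow]
        exact zpow_mem hgk i)
    refine ⟨n, n.2, ?_, ?_, congrArg Subtype.val (hn' _ (mem_zpowers _))⟩
    · intro v hv
      have h1 := (mem_normalizer_iff.1 hn ⟨v, hv.2⟩).1 hv.1
      exact ⟨h1, K.mul_mem (K.mul_mem n.2 hv.2) (K.inv_mem n.2)⟩
    · intro v hv
      have h1 := (mem_normalizer_iff''.1 hn ⟨v, hv.2⟩).1 hv.1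
      exact ⟨h1, K.mul_mem (K.mul_mem (K.inv_mem n.2) hv.2) n.2⟩
  obtain ⟨hn1, hn2, hnk⟩ := hnk
  rw [← hnk]
  rw [← hnk] at hgk
  have hk' : n * k * n⁻¹ ∈ (T : Subgroup X) ⊓ K := ⟨hgk, K.mul_mem (K.mul_mem hnA hk.2) (K.inv_mem hnA)⟩
  obtain ⟨w, hw⟩ := d.emb.surj k hk.1
  obtain ⟨w', hw'⟩ := d.emb.surj _ hgk
  have key : ∀ (n k : X), n ∈ K → (∀ v ∈ d.emb.A ⊓ K, n * v * n⁻¹ ∈ d.emb.A ⊓ K) →
      k ∈ (T : Subgroup X) ⊓ K → n * k * n⁻¹ ∈ (T : Subgroup X) ⊓ K → ∀ w w' : V, u w = k →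
      u w' = n * k * n⁻¹ → ∀ a, pA a = true → ∃ a', pA a' = true ∧ cm w' a' = cm w a := by
    intro n k hnK hn hk hk' w w' hw hw' a ha
    obtain ⟨v, hv, c, hc, hvc⟩ := d.split (d.emb.mem_A.2 ha)
    have h1 := hn v hv
    obtain ⟨a', ha', hva'⟩ := h1.1
    refine ⟨a', ha', ?_⟩
    apply d.emb.inj
    rw [← d.emb.comm, ← d.emb.comm, hw, hw', hva', hvc, d.comm_split hk.2 hc.2]
    have h2 := commutator_mem d.gold d.core d.emb.A_elem d.sc d.comp d.not_le hv hk
    have h3 := mem_centralizer_iff.1 h2 n hnK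
    calc n * k * n⁻¹ * (n * v * n⁻¹) * (n * k * n⁻¹)⁻¹ * (n * v * n⁻¹)⁻¹ =
        n * (k * v * k⁻¹ * v⁻¹) * n⁻¹ := by group
      _ = k * v * k⁻¹ * v⁻¹ := by rw [h3]; group
  have key2 : ∀ (k k' : X), k ∈ (T : Subgroup X) ⊓ K → k' ∈ (T : Subgroup X) ⊓ K → ∀ w w' : V, u w = k →
      u w' = k' → ∀ a, pA a = true → cm w' (cm w a) = one := by
    intro k k' hk hk' w w' hw hw' a ha
    apply d.emb.cm_of_commute
    rw [← d.emb.comm w a, hw, hw']
    exact mem_centralizer_iff.1 (d.comm_mem hk (d.emb.mem_A.2 ha)) k' hk'.2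
  have e1 := key n k hnA hn1 hk hk' w w' hw hw'
  have e2 := key n⁻¹ (n * k * n⁻¹) (inv_mem hnA) (fun v hv => by rw [inv_inv]; exact hn2 v hv) hk'
    (by
      have : n⁻¹ * (n * k * n⁻¹) * n⁻¹⁻¹ = k := by group
      rw [this]; exact hk) w' w hw' (by
      have : n⁻¹ * (n * k * n⁻¹) * n⁻¹⁻¹ = k := by group
      rw [this]; exact hw)
  have h1 := dp_eq e1 e2 (key2 k k hk hk w w hw hw) (key2 k _ hk hk' w w' hw hw')
    (key2 _ _ hk' hk' w' w' hw' hw') (key2 _ k hk' hk w' w hw' hw)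
  have h2 := d.emb.inv_mul_mem_A h1
  rwa [hw, hw'] at h2

/-- **Step 3** -/
theorem center_eq : K ⊓ centralizer (K : Set X) = ⊥ := by
  have ctx : Ctx K := ⟨d.core, d.comp⟩
  have : Fact (Nat.Prime 2) := ⟨Nat.prime_two⟩
  obtain ⟨R, hR⟩ := ctx.exists_sylow T
  have hRm : ∀ y : K, y ∈ (R : Subgroup K) ↔ (y : X) ∈ (T : Subgroup X) := fun y => by
    rw [hR, mem_subgroupOf]
  rw [eq_bot_iff]
  intro x hx
  have hxT : x ∈ (T : Subgroup X) := ctx.center_le T hx
  have hcomm : IsMulCommutative (R : Subgroup K) := by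
    refine ⟨⟨fun y z => Subtype.ext (Subtype.ext ?_)⟩⟩
    have hy : ((y : K) : X) ∈ d.emb.A := d.le_A ⟨(hRm _).1 y.2, (y : K).2⟩
    have hz : ((z : K) : X) ∈ d.emb.A := d.le_A ⟨(hRm _).1 z.2, (z : K).2⟩
    exact d.cA hy hz
  have hxR : (⟨x, hx.1⟩ : K) ∈ (R : Subgroup K) := (hRm _).2 hxT
  have h3 := S0089.pow_index_eq_one_of_mem (R : Subgroup K) ⟨x, hx.1⟩
    (by rw [d.comp.2.1.commutator_eq_top]; exact mem_top _) (mem_center_coe.2 hx.2)
  have h5 : x * x = 1 := elem_sq d.emb.A_elem (d.le_A ⟨hxT, hx.1⟩)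
  have hodd : ¬ 2 ∣ (R : Subgroup K).index := R.not_dvd_index
  obtain ⟨j, hj⟩ : ∃ j, (R : Subgroup K).index = 2 * j + 1 := by
    refine ⟨(R : Subgroup K).index / 2, ?_⟩
    omega
  have h6 : x ^ (2 * j + 1) = 1 := by
    rw [← hj]
    exact congrArg Subtype.val h3
  rw [pow_succ, pow_mul, pow_two, h5, one_pow, one_mul] at h6
  exact h6

theorem notin {x : X} (hx : x ∈ K) (h1 : x ≠ 1) : x ∉ centralizer (K : Set X) := by
  intro h
  have h2 : x ∈ K ⊓ centralizer (K : Set X) := ⟨hx, h⟩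
  rw [d.center_eq] at h2
  exact h1 h2

/-- **Step 4** -/
theorem norm_or {t : V} (ht : dp t = (false, false, true)) (hn : u t ∉ normalizer (K : Set X)) {s : X}
    (hs : s ∈ (T : Subgroup X)) : s ∈ normalizer (K : Set X) ∨ s * u t ∈ normalizer (K : Set X) := by
  by_contra hcon
  push Not at hcon
  obtain ⟨h1, h2⟩ := hcon
  obtain ⟨v, hv, hv'⟩ := d.exists_nc
  obtain ⟨a, ha, hav⟩ := hv.1
  have h3 : u t * v * (u t)⁻¹ * v⁻¹ = u (cm t a) := by rw [← hav, d.emb.comm]
  have h4 : pK (cm t a) = true := pK_cm_A ht ha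
  obtain ⟨w, rfl⟩ := d.emb.surj s hs
  have h5 : u w * u (cm t a) = u (cm t a) * u w := d.emb.commute (cm_K h4)
  rw [← h3] at h5
  have hcen : ∀ s : X, s ∉ normalizer (K : Set X) → s * v * s⁻¹ ∈ centralizer (K : Set X) := by
    intro s hs
    rw [mem_centralizer_iff]
    intro k hk
    exact (commute_of_notMem_normalizer d.comp hs hv.2 hk).symm
  apply hv'
  have h6 : v = (u w * v * (u w)⁻¹) * (u w * u t * v * (u w * u t)⁻¹)⁻¹ * (u t * v * (u t)⁻¹) := by
    have h7 : u w * (u t * v * (u t)⁻¹ * v⁻¹) * (u w)⁻¹ = u t * v * (u t)⁻¹ * v⁻¹ := by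
      rw [h5]; group
    have h8 : (u w * u t * v * (u w * u t)⁻¹) * (u w * v * (u w)⁻¹)⁻¹ =
        u w * (u t * v * (u t)⁻¹ * v⁻¹) * (u w)⁻¹ := by group
    have h9 : (u w * v * (u w)⁻¹) * (u w * u t * v * (u w * u t)⁻¹)⁻¹ = (u t * v * (u t)⁻¹ * v⁻¹)⁻¹ := by
      rw [← h7, ← h8]; group
    rw [h9]
    group
  rw [h6]
  exact mul_mem (mul_mem (hcen _ h1) (inv_mem (hcen _ h2))) (hcen _ hn)

theorem norm_of_dp {w w' : V} (h : dp w = dp w') (hw : u w ∈ normalizer (K : Set X)) :
    u w' ∈ normalizer (K : Set X) := by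
  have h1 := mul_mem hw (d.A_norm (d.emb.inv_mul_mem_A h))
  rwa [mul_inv_cancel_left] at h1

theorem t_norm : u c24 ∈ normalizer (K : Set X) := by
  by_contra hn
  have h1 := d.norm_or (t := c24) (by decide) hn (s := u c23) (d.emb.mem _)
  have h2 := d.norm_or (t := c24) (by decide) hn (s := u c34) (d.emb.mem _)
  rw [← d.emb.mul] at h1 h2
  have key : ∀ w w' : V, u w ∈ normalizer (K : Set X) → u w' ∈ normalizer (K : Set X) →
      dp (cm w w') = (false, false, true) → False := by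
    intro w w' hw hw' hd
    apply hn
    refine d.norm_of_dp (w := cm w w') hd ?_
    rw [← d.emb.comm]
    exact mul_mem (mul_mem (mul_mem hw hw') (inv_mem hw)) (inv_mem hw')
  rcases h1 with h1 | h1 <;> rcases h2 with h2 | h2 <;> exact key _ _ h1 h2 (by decide)

theorem T_norm_A {s : X} (hs : s ∈ (T : Subgroup X)) {a : X} (ha : a ∈ d.emb.A) : s * a * s⁻¹ ∈ d.emb.A :=
  d.sc.2 a ha s (mul_mem (mul_mem hs (d.emb.A_le ha)) (inv_mem hs))

theorem mem_normalizer_B {s : X} (hs : s ∈ (T : Subgroup X)) (hsK : s ∈ normalizer (K : Set X)) :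
    s ∈ normalizer ((d.emb.A ⊓ K : Subgroup X) : Set X) := by
  apply Cfsg.Agent.SylowL.NoCompT.mem_normalizer_of_conj_mem
  rintro x ⟨hx1, hx2⟩
  exact ⟨d.T_norm_A hs hx1, (mem_normalizer_iff.1 hsK x).1 hx2⟩

theorem inf_eq : (T : Subgroup X) ⊓ K = d.emb.A ⊓ K :=
  le_antisymm (fun _ hx => ⟨d.le_A hx, hx.2⟩) (fun _ hx => ⟨d.emb.A_le hx.1, hx.2⟩)

/-- an odd power of an element of `N_K(B)` centralises `B` -/
theorem exists_odd {r : X} (hr : r ∈ K) (hrn : r ∈ normalizer ((d.emb.A ⊓ K : Subgroup X) : Set X)) :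
    ∃ j : ℕ, r ^ (2 * j + 1) ∈ centralizer ((d.emb.A ⊓ K : Subgroup X) : Set X) := by
  have ctx : Ctx K := ⟨d.core, d.comp⟩
  have f2 : Fact (Nat.Prime 2) := ⟨Nat.prime_two⟩
  obtain ⟨R, hR⟩ := ctx.exists_sylow T
  have hRm : ∀ y : K, y ∈ (R : Subgroup K) ↔ (y : X) ∈ (T : Subgroup X) := fun y => by
    rw [hR, mem_subgroupOf]
  have hRm' : ∀ y : K, y ∈ (R : Subgroup K) ↔ (y : X) ∈ d.emb.A ⊓ K := fun y => by
    rw [hRm, ← d.inf_eq]
    exact ⟨fun h => ⟨h, y.2⟩, fun h => h.1⟩
  set y : K := ⟨r, hr⟩ with hy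
  obtain ⟨e, m, hm, hem⟩ := Nat.exists_eq_pow_mul_and_not_dvd (orderOf_pos y).ne' 2 (by norm_num)
  have hyR : y ∈ normalizer ((R : Subgroup K) : Set K) := by
    rw [mem_normalizer_iff]
    intro z
    rw [hRm', hRm']
    exact mem_normalizer_iff.1 hrn z
  have h1 : y ^ m ∈ (R : Subgroup K) := by
    have h2 : IsPGroup 2 (zpowers (y ^ m)) := by
      apply IsPGroup.of_card (n := e)
      rw [Nat.card_zpowers, orderOf_pow_of_dvd (by rintro rfl; simp at hm) (by rw [hem]; exact Dvd.intro_left _ rfl),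
        hem, Nat.mul_div_cancel _ (by
          rcases Nat.eq_zero_or_pos m with h0 | h0
          · rw [h0] at hm; simp at hm
          · exact h0)]
    have h3 := h2.inf_normalizer_sylow R
    have h4 : y ^ m ∈ zpowers (y ^ m) ⊓ normalizer ((R : Subgroup K) : Set K) :=
      ⟨mem_zpowers _, pow_mem hyR m⟩
    exact (h3.le h4).2
  obtain ⟨j, hj⟩ : ∃ j, m = 2 * j + 1 := ⟨m / 2, by omega⟩
  refine ⟨j, ?_⟩
  have h5 : r ^ m ∈ d.emb.A := ((hRm' _).1 h1).1
  rw [← hj, mem_centralizer_iff]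
  intro x hx
  exact d.cA hx.1 h5

/-- **Step 5** -/
theorem step5 {a b : X} (ha : a ∈ d.emb.A ⊓ K) (ha1 : a ≠ 1) (hta : u c24 * a = a * u c24)
    (hb : b ∈ d.emb.A ⊓ K) (hb1 : u c24 * b * (u c24)⁻¹ * b⁻¹ ≠ 1) :
    ∃ b1 ∈ d.emb.A ⊓ K, a = u c24 * b1 * (u c24)⁻¹ * b1⁻¹ := by
  have htT : u c24 ∈ (T : Subgroup X) := d.emb.mem _
  have htN := d.mem_normalizer_B htT d.t_norm
  have htb : u c24 * b * (u c24)⁻¹ * b⁻¹ ∈ d.emb.A ⊓ K :=
    Subgroup.mul_mem _ ((mem_normalizer_iff.1 htN b).1 hb) (Subgroup.inv_mem _ hb)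
  obtain ⟨n, hnK, hnT, hn⟩ := Cfsg.Agent.SylowL.NoCompT.exists_conj d.gold d.core d.emb.A_elem d.sc d.comp
    htb (d.notin htb.2 hb1) ha (d.notin ha.2 ha1)
  rw [d.inf_eq] at hnT
  have hn' : n * (u c24 * b * (u c24)⁻¹ * b⁻¹) * n⁻¹ = a := by
    by_contra hne
    refine d.notin (x := a⁻¹ * (n * (u c24 * b * (u c24)⁻¹ * b⁻¹) * n⁻¹)) ?_ ?_ hn
    · exact K.mul_mem (K.inv_mem ha.2) (K.mul_mem (K.mul_mem hnK htb.2) (K.inv_mem hnK))
    · intro h
      exact hne (inv_mul_eq_one.1 h).symm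
  have hr : u c24 * n * (u c24)⁻¹ * n⁻¹ ∈ K :=
    K.mul_mem ((mem_normalizer_iff.1 d.t_norm n).1 hnK) (K.inv_mem hnK)
  obtain ⟨j, hj⟩ := d.exists_odd hr (mul_mem (mul_mem (mul_mem htN hnT) (inv_mem htN)) (inv_mem hnT))
  refine odd_step (B := d.emb.A ⊓ K) (fun x hx => elem_sq d.emb.A_elem hx.1)
    (fun x hx y hy => d.cA hx.1 hy.1) htN hnT ?_ hj ha hb hta hn'
  rw [← d.emb.mul]
  have h1 : u (mul c24 c24) = 1 := by
    rw [← d.emb.one]
    congr 1
  rw [h1]
  exact one_mem _

theorem contra : False := by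
  obtain ⟨v, hv, hv'⟩ := d.exists_nc
  by_cases hc : ∃ b ∈ d.emb.A ⊓ K, u c24 * b * (u c24)⁻¹ * b⁻¹ ≠ 1
  · obtain ⟨b, hb, hb1⟩ := hc
    have htN := d.mem_normalizer_B (d.emb.mem c24) d.t_norm
    have htb : u c24 * b * (u c24)⁻¹ * b⁻¹ ∈ d.emb.A ⊓ K :=
      Subgroup.mul_mem _ ((mem_normalizer_iff.1 htN b).1 hb) (Subgroup.inv_mem _ hb)
    obtain ⟨w, hw, rfl⟩ := hb.1
    rw [d.emb.comm] at hb1 htb
    -- `T` normalises `K`
    have hTK : ∀ s ∈ (T : Subgroup X), s ∈ normalizer (K : Set X) := by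
      intro s hs
      obtain ⟨y, rfl⟩ := d.emb.surj s hs
      refine mem_normalizer_of_commute d.comp htb.2 (d.notin htb.2 hb1) ?_
      exact d.emb.commute (cm_K (pK_cm_A (by decide) hw))
    -- every element of `I ∩ K` lies in the centre
    have key : ∀ s : V, pI (cm s w) = true → pK (cm s w) = true := by
      intro s hs
      by_cases h1 : cm s w = one
      · rw [h1]; decide
      have hsN := d.mem_normalizer_B (d.emb.mem s) (hTK _ (d.emb.mem s))
      have h2 : u (cm s w) ∈ d.emb.A ⊓ K := by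
        rw [← d.emb.comm]
        exact Subgroup.mul_mem _ ((mem_normalizer_iff.1 hsN _).1 hb) (Subgroup.inv_mem _ hb)
      obtain ⟨b1, hb1', he⟩ := d.step5 h2 (by
        intro h3
        apply h1
        apply d.emb.inj
        rw [h3, d.emb.one]) (d.emb.commute (cm_of_pI (by decide) hs)) hb (by rwa [d.emb.comm])
      obtain ⟨w1, hw1, rfl⟩ := hb1'.1
      rw [d.emb.comm] at he
      rw [d.emb.inj he]
      exact pK_cm_A (by decide) hw1
    rw [pA_iff] at hw
    obtain ⟨h1, h2, h3⟩ := hw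
    apply hb1
    rw [← d.emb.one]
    congr 1
    have k1 := key c23 (by rw [pI_iff]; simp [cm, h1, h2])
    have k2 := key c34 (by rw [pI_iff]; simp [cm, h1, h2])
    rw [pK_iff] at k1 k2
    simp [cm, h1, h2, h3] at k1 k2
    apply V.ext' <;> simp [cm, one, h1, h2, h3, k1, k2]
  · push Not at hc
    -- `Z(T)` centralises `K`
    have hZ : ∀ a, pA a = true → u (cm c24 a) ∈ centralizer (K : Set X) := by
      intro a ha
      obtain ⟨x, hx, c, hc', hxc⟩ := d.split (d.emb.mem_A.2 ha)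
      rw [← d.emb.comm, hxc]
      have h1 := hc x hx
      have h2 : u c24 * (x * c) * (u c24)⁻¹ * (x * c)⁻¹ = x * (u c24 * c * (u c24)⁻¹ * c⁻¹) * x⁻¹ := by
        have h3 : u c24 * x * (u c24)⁻¹ = x := mul_inv_eq_one.1 h1
        calc u c24 * (x * c) * (u c24)⁻¹ * (x * c)⁻¹ =
            (u c24 * x * (u c24)⁻¹) * (u c24 * c * (u c24)⁻¹ * c⁻¹) * x⁻¹ := by group
          _ = x * (u c24 * c * (u c24)⁻¹ * c⁻¹) * x⁻¹ := by rw [h3]
      rw [h2]
      apply conj_mem_centralizer (le_normalizer hx.2)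
      exact mul_mem (conj_mem_centralizer d.t_norm hc'.2) (inv_mem hc'.2)
    obtain ⟨w, hw, rfl⟩ := hv.1
    have hv1 : cm c24 w = one := by
      apply d.emb.inj
      rw [← d.emb.comm, hc _ hv, d.emb.one]
    have hwI := pI_of_comm (by decide) hw hv1
    -- elements moving `v` by an element of `Z(T)`
    have key : ∀ (s : V) (a : V), pA a = true → cm s w = cm c24 a → cm s w = one := by
      intro s a ha hs
      have h1 : u (cm s w) ∈ centralizer (K : Set X) := by rw [hs]; exact hZ a ha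
      have hsN : u s ∈ normalizer (K : Set X) := by
        by_contra hsN
        apply hv'
        have h2 : u s * u w * (u s)⁻¹ ∈ centralizer (K : Set X) := by
          rw [mem_centralizer_iff]
          intro k hk
          exact (commute_of_notMem_normalizer d.comp hsN hv.2 hk).symm
        have h3 : u w = (u (cm s w))⁻¹ * (u s * u w * (u s)⁻¹) := by
          rw [← d.emb.comm]; group
        rw [h3]
        exact mul_mem (inv_mem h1) h2
      have h4 : u (cm s w) ∈ K := by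
        rw [← d.emb.comm]
        exact K.mul_mem ((mem_normalizer_iff.1 hsN _).1 hv.2) (K.inv_mem hv.2)
      by_contra hne
      refine d.notin h4 ?_ h1
      intro h5
      apply hne
      apply d.emb.inj
      rw [h5, d.emb.one]
    rw [pI_iff] at hwI
    obtain ⟨h1, h2, h3, h4, h5⟩ := hwI
    have k1 := key c34 ⟨w.a13, false, false, false, false, false, false, false, false⟩ (by
      simp [pA]) (by apply V.ext' <;> simp [cm, h1, h2, h3, h4, h5])
    have k2 := key c23 ⟨false, false, false, w.a35, false, false, false, false, false⟩ (by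
      simp [pA]) (by apply V.ext' <;> simp [cm, h1, h2, h3, h4, h5])
    have e1 := congrArg V.a14 k1
    have e2 := congrArg V.a25 k2
    simp [cm, one, h1, h2, h3, h4, h5] at e1 e2
    -- `v` is in the centre of `T`, so centralises `K`
    apply hv'
    have hwK : w = cm c24 ⟨w.a14, false, false, w.a25, false, false, false, false, false⟩ := by
      apply V.ext' <;> simp [cm, h1, h2, h3, h4, h5, e1, e2]
    rw [hwK]
    exact hZ _ (by simp [pA])

end Dat

/-- **No components.** -/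
theorem layer_eq_bot (hG : GoldHyp.{u}) (hO : Cfsg.oddCore X = ⊥) (h : Emb (T : Subgroup X) u) :
    Cfsg.layer X = ⊥ := by
  rw [layer_eq_bot_iff]
  intro K hK
  exact (Dat.mk h hG hO hK : Dat T K u).contra

/-- **`A` is normal** -/
theorem A_normal (hG : GoldHyp.{u}) (hO : Cfsg.oddCore X = ⊥) (h : Emb (T : Subgroup X) u) : h.A.Normal :=
  normal_of_layer hO (layer_eq_bot hG hO h) T (fun _ ha _ hb => elem_comm h.A_elem ha hb) (h.isStronglyClosed T)

end Cfsg.Agent.H302.NC
end

private theorem dce_07f95a7e4207 : _root_.True := by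
  try have : _root_.True := by simp only [_root_.Cfsg.Agent.H302.Emb.A.congr_simp]
  exact _root_.True.intro
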